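import Cfsg.Agent.H536.T5.DataA
import Cfsg.Agent.H536.T5.DataB
import Cfsg.Agent.S2082
import Cfsg.Agent.Lib.PackFast
import Cfsg.Agent.Prune
set_option linter.all false
open scoped Cfsg.Agent.FastGrp

/-!
# The outer automorphism of `HN` moves the class of the element `n2` of `Q` (helper793)

Traces in the 133-dimensional representation modulo 31: `tr(n2) = 1`, `tr(θ(n2)) = 0`.
-/

set_option autoImplicit false
set_option maxRecDepth 100000

namespace Cfsg.Agent.H793.G5.Theta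

open Cfsg.Agent.Lib.PackMat Cfsg.Agent.Lib.PackMatGroup Cfsg.Agent.Lib.PackMatMul Cfsg.Agent.HN.RepData
open Cfsg.Agent.HN.Rep (L LG gens rho)
open Cfsg.Agent.HN Cfsg.Agent.H536.T5.Prog
open Cfsg.Agent.H536.T5 (g1w g2w aa)
open Cfsg.Agent.HN.XWords (V)

/-- the word of `n4` -/
def n4w : List ℕ := [3, 0, 3, 4, 3, 0, 2, 1, 2, 1, 2, 4, 1, 3, 3, 1, 3, 0, 0, 4, 3, 0, 3, 0, 3, 1, 2, 4, 2, 1, 2]

/-- the straight line program of `n2` -/
def progA : List (ℕ × List ℕ) := [
  (4, [2, 4, 2, 2, 0, 2, 0, 2, 2, 4, 3, 1, 3, 3, 4]),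
  (5, [4, 8, 4, 8, 4, 5, 7, 4, 4, 4, 5]),
  (1, [0, 1, 0, 5]),
  (6, [3, 6, 7, 6, 3, 5, 4, 5, 4, 5, 7, 4, 6, 6, 4, 6, 3, 3, 7, 6, 3, 6, 3, 6, 4, 5, 7, 5, 4, 5]),
  (1, [1]),
  (0, [0]),
  (2, [2]),
  (0, [0]),
  (5, [4, 2, 0]),
  (0, [0]),
  (0, [0]),
  (8, [2, 5, 0])]

/-- the straight line program of `θ(n2)`; the first three entries are the images of the letters `4`, `6`, `7` -/
def progB : List (ℕ × List ℕ) := [
  (4, [0, 0]),
  (7, [7]),
  (9, [9]),
  (2, [5, 2, 5, 5, 3, 5, 3, 5, 5, 2, 6, 4, 6, 6, 2]),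
  (3, [7, 1, 7, 1, 7, 3, 2, 7, 7, 7, 3]),
  (1, [0, 1, 0, 8]),
  (9, [6, 9, 5, 9, 6, 8, 7, 8, 7, 8, 5, 7, 9, 9, 7, 9, 6, 6, 5, 9, 6, 9, 6, 9, 7, 8, 5, 8, 7, 8]),
  (1, [1]),
  (0, [0]),
  (2, [2]),
  (0, [0]),
  (5, [4, 2, 0]),
  (0, [0]),
  (0, [0]),
  (8, [2, 5, 0])]

set_option Elab.async false in
theorem chkA : checkT C progA [(0, 1)] L = true := by (rewrite [show @Cfsg.Agent.H536.T5.Prog.checkT = delta% @Cfsg.Agent.H536.T5.Prog.checkT from by delta Cfsg.Agent.H536.T5.Prog.checkT; rfl, Cfsg.Agent.Lib.PackFast.withM_fast]; decide +kernel)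

set_option Elab.async false in
theorem chkB : checkT C progB [(0, 0)] L = true := by (rewrite [show @Cfsg.Agent.H536.T5.Prog.checkT = delta% @Cfsg.Agent.H536.T5.Prog.checkT from by delta Cfsg.Agent.H536.T5.Prog.checkT; rfl, Cfsg.Agent.Lib.PackFast.withM_fast]; decide +kernel)

section prog

variable (prog : List (ℕ × List ℕ))

/-- the results in the presented group -/
noncomputable def RP (i : ℕ) : Cfsg.Spor.HN := (runG prog gens).getD i 1

theorem rho_RP (i : ℕ) : rho (RP prog i) = (runG prog LG).getD i 1 := by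
  unfold RP
  rw [← Rep.gens_map, runG_map, List.getD_eq_getElem?_getD, List.getD_eq_getElem?_getD, List.getElem?_map]
  cases (runG prog gens)[i]? with
  | none => simp
  | some b => simp

theorem mul_evG (g : Cfsg.Spor.HN) (w : List ℕ) :
    g * evG (runG prog gens) w = w.foldl (fun g j => g * RP prog j) g := by
  induction w generalizing g with
  | nil => rw [evG_nil, mul_one]; rfl
  | cons i w ih => rw [evG_cons, ← mul_assoc, ih]; rfl

/-- the steps -/
theorem st (k i : ℕ) (w : List ℕ) (hk : k < prog.length) (h : wordAt prog k = i :: w) :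
    RP prog k = w.foldl (fun g j => g * RP prog j) (RP prog i) := by
  rw [← mul_evG]
  exact runG_word prog gens hk h

/-- the words in the letters -/
theorem sw (k : ℕ) (w : List ℕ) (hk : k < prog.length) (h : wordAt prog k = w.map (· + prog.length)) :
    RP prog k = V w := by
  have e : RP prog k = evG (runG prog gens) (w.map (· + prog.length)) := runG_word prog gens hk h
  rw [e, V]
  refine evG_shift (fun c => ?_) w
  rw [add_comm]
  exact runG_getD_add prog gens c

/-- the letters -/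
theorem lt (k : ℕ) : RP prog (prog.length + k) = gens.getD k 1 := runG_getD_add prog gens k

theorem trace (v : ℕ) (hc : checkT C prog [(0, v)] L = true) (hl : 0 < prog.length) :
    Matrix.trace ((rho (RP prog 0) : U C) : M C) = (v : ZMod C.p) := by
  rw [rho_RP]
  exact checkT_sound (good_of_check Rep.good) A12Group.codesR hc
    (fun q hq => by rw [List.mem_singleton.1 hq]; exact Nat.lt_of_lt_of_le hl (Nat.le_add_right _ _)) (0, v)
    List.mem_cons_self

end prog

/-- the results of the first program -/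
noncomputable abbrev RA (i : ℕ) : Cfsg.Spor.HN := RP progA i

/-- the results of the second program -/
noncomputable abbrev RB (i : ℕ) : Cfsg.Spor.HN := RP progB i

/-- the substitution describing the automorphism -/
def sub (c : ℕ) : List ℕ :=
  match c with
  | 4 => [4, 0, 0]
  | 6 => [6, 6]
  | 7 => [7, 7]
  | c => [c]

theorem v_g1 : RA 11 = V g1w := sw progA 11 g1w (by decide) (by decide)
theorem v_g2 : RA 10 = V g2w := sw progA 10 g2w (by decide) (by decide)
theorem v_n4 : RA 8 = V n4w := sw progA 8 n4w (by decide) (by decide)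
theorem s_a : RA 9 = RA 11 * RA 10 * RA 11 * RA 10 * RA 15 := st progA 9 11 [10, 11, 10, 15] (by decide) (by decide)
theorem s_a2 : RA 7 = RA 9 * RA 9 := st progA 7 9 [9] (by decide) (by decide)
theorem s_a4 : RA 6 = RA 7 * RA 7 := st progA 6 7 [7] (by decide) (by decide)
theorem s_n42 : RA 5 = RA 8 * RA 8 := st progA 5 8 [8] (by decide) (by decide)
theorem s_n44 : RA 4 = RA 5 * RA 5 := st progA 4 5 [5] (by decide) (by decide)
theorem s_n3 : RA 3 = RA 9 * RA 8 * RA 6 * RA 4 := st progA 3 9 [8, 6, 4] (by decide) (by decide)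
theorem s_n32 : RA 2 = RA 3 * RA 3 := st progA 2 3 [3] (by decide) (by decide)
theorem s_n34 : RA 1 = RA 2 * RA 2 := st progA 1 2 [2] (by decide) (by decide)
theorem s_n2 : RA 0 = RA 9 * RA 3 * RA 6 * RA 1 := st progA 0 9 [3, 6, 1] (by decide) (by decide)

/-- the positions of the images of the letters in the second program -/
def fB (c : ℕ) : ℕ := if c = 4 then 14 else if c = 6 then 13 else if c = 7 then 12 else 15 + c

theorem letB (c : ℕ) (hc : c < 8) (h5 : c ≠ 5) : RB (fB c) = V (sub c) := by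
  have h0 : c = 0 ∨ c = 1 ∨ c = 2 ∨ c = 3 ∨ c = 4 ∨ c = 6 ∨ c = 7 := by omega
  have h1 : ∀ k, RB (15 + k) = V [k] := fun k => by
    rw [XWords.V_cons, show V [] = 1 from rfl, mul_one]
    exact lt progB k
  rcases h0 with rfl | rfl | rfl | rfl | rfl | rfl | rfl
  · exact h1 0
  · exact h1 1
  · exact h1 2
  · exact h1 3
  · exact sw progB 14 [4, 0, 0] (by decide) (by decide)
  · exact sw progB 13 [6, 6] (by decide) (by decide)
  · exact sw progB 12 [7, 7] (by decide) (by decide)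

theorem swB (k : ℕ) (w : List ℕ) (hk : k < progB.length) (h : wordAt progB k = w.map fB)
    (hw : ∀ c ∈ w, c < 8 ∧ c ≠ 5) : RB k = V (w.flatMap sub) := by
  have e : RB k = evG (runG progB gens) (w.map fB) := runG_word progB gens hk h
  rw [e]
  clear e h hk
  induction w with
  | nil => rfl
  | cons c w ih =>
    rw [List.map_cons, evG_cons, List.flatMap_cons, XWords.V_append, ih fun d hd => hw d (List.mem_cons_of_mem _ hd)]
    congr 1
    exact letB c (hw c List.mem_cons_self).1 (hw c List.mem_cons_self).2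

theorem v_g1q : RB 11 = V (g1w.flatMap sub) := swB 11 g1w (by decide) (by decide) (by decide)
theorem v_g2q : RB 10 = V (g2w.flatMap sub) := swB 10 g2w (by decide) (by decide) (by decide)
theorem v_n4q : RB 8 = V (n4w.flatMap sub) := swB 8 n4w (by decide) (by decide) (by decide)
theorem s_aq : RB 9 = RB 11 * RB 10 * RB 11 * RB 10 * RB 18 := st progB 9 11 [10, 11, 10, 18] (by decide) (by decide)
theorem s_a2q : RB 7 = RB 9 * RB 9 := st progB 7 9 [9] (by decide) (by decide)
theorem s_a4q : RB 6 = RB 7 * RB 7 := st progB 6 7 [7] (by decide) (by decide)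
theorem s_n42q : RB 5 = RB 8 * RB 8 := st progB 5 8 [8] (by decide) (by decide)
theorem s_n44q : RB 4 = RB 5 * RB 5 := st progB 4 5 [5] (by decide) (by decide)
theorem s_n3q : RB 3 = RB 9 * RB 8 * RB 6 * RB 4 := st progB 3 9 [8, 6, 4] (by decide) (by decide)
theorem s_n32q : RB 2 = RB 3 * RB 3 := st progB 2 3 [3] (by decide) (by decide)
theorem s_n34q : RB 1 = RB 2 * RB 2 := st progB 1 2 [2] (by decide) (by decide)
theorem s_n2q : RB 0 = RB 9 * RB 3 * RB 6 * RB 1 := st progB 0 9 [3, 6, 1] (by decide) (by decide)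

/-! ### the element `n2` -/

theorem eq_n2 : H536.T5.DataA.R 82 = RA 0 := by
  have h1 : H536.T5.DataA.R 98 = RA 11 := by rw [v_g1]; exact H536.T5.DataA.sw 98 g1w (by decide) (by decide)
  have h2 : H536.T5.DataA.R 97 = RA 10 := by rw [v_g2]; exact H536.T5.DataA.sw 97 g2w (by decide) (by decide)
  have h3 : H536.T5.DataA.R 93 = RA 8 := by rw [v_n4]; exact H536.T5.DataA.sw 93 n4w (by decide) (by decide)
  have h4 : H536.T5.DataA.R 103 = RA 15 := by
    rw [show RA 15 = gens.getD 3 1 from lt progA 3]; exact runG_getD_add H536.T5.DataA.prog gens 3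
  rw [H536.T5.DataA.s_n2, H536.T5.DataA.s_n3I, H536.T5.DataA.s_n3_2, H536.T5.DataA.s_n3, H536.T5.DataA.s_n4I,
    H536.T5.DataA.s_n4_2, H536.T5.DataA.s_aI, H536.T5.DataA.s_a2, H536.T5.DataA.s_a, h1, h2, h3, h4,
    s_n2, s_n34, s_n32, s_n3, s_n44, s_n42, s_a4, s_a2, s_a]

theorem tr_n2 : H536.T5.DataT.tr (H536.T5.DataA.R 82) = 1 := by
  rw [eq_n2]
  exact (trace progA 1 chkA (by decide)).trans (by norm_num)

section theta

variable {θ : Cfsg.Spor.HN →* Cfsg.Spor.HN} (hx : θ Pres.hx = Pres.hx) (hy : θ Pres.hy = Pres.hy)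
  (hz : θ Pres.hz = Pres.hz * Pres.hx ^ 2) (ht : θ Pres.ht = Pres.ht ^ 2)

include hx hy hz ht

theorem theta_letter (c : ℕ) (hc : c < 8) (h5 : c ≠ 5) : θ (gens.getD c 1) = V (sub c) := by
  have h0 : c = 0 ∨ c = 1 ∨ c = 2 ∨ c = 3 ∨ c = 4 ∨ c = 6 ∨ c = 7 := by omega
  rcases h0 with rfl | rfl | rfl | rfl | rfl | rfl | rfl
  · show θ Pres.hx = Pres.hx * 1
    rw [hx, mul_one]
  · show θ Pres.hx⁻¹ = Pres.hx⁻¹ * 1
    rw [map_inv, hx, mul_one]
  · show θ Pres.hy = Pres.hy * 1
    rw [hy, mul_one]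
  · show θ Pres.hy⁻¹ = Pres.hy⁻¹ * 1
    rw [map_inv, hy, mul_one]
  · show θ Pres.hz = Pres.hz * (Pres.hx * (Pres.hx * 1))
    rw [hz, mul_one, pow_two]
  · show θ Pres.ht = Pres.ht * (Pres.ht * 1)
    rw [ht, mul_one, pow_two]
  · show θ Pres.ht⁻¹ = Pres.ht⁻¹ * (Pres.ht⁻¹ * 1)
    rw [map_inv, ht, mul_one, pow_two, mul_inv_rev]

theorem theta_V (w : List ℕ) (hw : ∀ c ∈ w, c < 8 ∧ c ≠ 5) : θ (V w) = V (w.flatMap sub) := by
  induction w with
  | nil => exact map_one θ
  | cons c w ih =>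
    rw [XWords.V_cons, map_mul, List.flatMap_cons, XWords.V_append, ih fun d hd => hw d (List.mem_cons_of_mem _ hd),
      theta_letter hx hy hz ht c (hw c List.mem_cons_self).1 (hw c List.mem_cons_self).2]

theorem theta_R : θ (RA 0) = RB 0 := by
  have h1 : θ (RA 11) = RB 11 := by rw [v_g1, v_g1q]; exact theta_V hx hy hz ht _ (by decide)
  have h2 : θ (RA 10) = RB 10 := by rw [v_g2, v_g2q]; exact theta_V hx hy hz ht _ (by decide)
  have h3 : θ (RA 8) = RB 8 := by rw [v_n4, v_n4q]; exact theta_V hx hy hz ht _ (by decide)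
  have h4 : θ (RA 15) = RB 18 := by
    rw [show RA 15 = gens.getD 3 1 from lt progA 3, show RB 18 = gens.getD 3 1 from lt progB 3]
    show θ Pres.hy⁻¹ = Pres.hy⁻¹
    rw [map_inv, hy]
  rw [s_n2, s_n34, s_n32, s_n3, s_n44, s_n42, s_a4, s_a2, s_a, s_n2q, s_n34q, s_n32q, s_n3q, s_n44q, s_n42q, s_a4q,
    s_a2q, s_aq]
  simp only [map_mul, h1, h2, h3, h4]

theorem tr_theta : H536.T5.DataT.tr (θ (H536.T5.DataA.R 82)) = 0 := by
  rw [eq_n2, theta_R hx hy hz ht]
  exact (trace progB 0 chkB (by decide)).trans Nat.cast_zero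

end theta

open H997.OutHN in
/-- **an automorphism of `HN` fixing `n2` is inner** -/
theorem inner_of_fix {α : MulAut Cfsg.Spor.HN} (hα : α (H536.T5.DataA.R 82) = H536.T5.DataA.R 82) :
    α ∈ (MulAut.conj : Cfsg.Spor.HN →* MulAut Cfsg.Spor.HN).range := by
  have hs := simple'
  have hfin := KFacts.HN.finite_HN
  obtain ⟨θ, hx, hy, hz, ht⟩ := exists_end
  have hx2 : Pres.hx ^ 2 ≠ 1 := by
    rw [← ψ_τ]
    intro h
    exact KFacts.HN.emb.ne (KFacts.HN.emb.inj (h.trans (map_one _).symm))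
  have hinj : Function.Injective θ := by
    rw [← MonoidHom.ker_eq_bot_iff]
    rcases IsSimpleGroup.eq_bot_or_eq_top_of_normal θ.ker inferInstance with h | h
    · exact h
    · exfalso
      have h1 : Pres.hx ∈ θ.ker := by rw [h]; exact Subgroup.mem_top _
      rw [MonoidHom.mem_ker, hx] at h1
      exact hx2 (by rw [h1, one_pow])
  let β : MulAut Cfsg.Spor.HN := MulEquiv.ofBijective θ (Finite.injective_iff_bijective.1 hinj)
  have hβ : ∀ u, β u = θ u := fun u => rfl
  have hidx : (MulAut.conj : Cfsg.Spor.HN →* MulAut Cfsg.Spor.HN).range.index = 2 := by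
    obtain ⟨γ, hγ⟩ := exists_outer
    exact H997.OutCard.card_eq_two' hγ KFacts.HN.out_index
  have h0 := tr_theta hx hy hz ht
  have h1 := tr_n2
  have h01 : (0 : ZMod 31) ≠ 1 := by decide
  have hβr : β ∉ (MulAut.conj : Cfsg.Spor.HN →* MulAut Cfsg.Spor.HN).range := by
    rintro ⟨g, hg⟩
    have h2 : θ (H536.T5.DataA.R 82) = g * H536.T5.DataA.R 82 * g⁻¹ := by
      rw [← hβ, ← hg]
      rfl
    have h3 := H536.T5.DataT.tr_conj (isConj_iff.2 ⟨g, h2.symm⟩)
    rw [h0, h1] at h3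
    exact h01 h3.symm
  by_contra hαr
  have h4 : α * β⁻¹ ∈ (MulAut.conj : Cfsg.Spor.HN →* MulAut Cfsg.Spor.HN).range := by
    rw [Subgroup.mul_mem_iff_of_index_two hidx, inv_mem_iff]
    exact ⟨fun h => absurd h hαr, fun h => absurd h hβr⟩
  obtain ⟨g, hg⟩ := h4
  have h5 : α = MulAut.conj g * β := by rw [hg, inv_mul_cancel_right]
  have h6 : g * θ (H536.T5.DataA.R 82) * g⁻¹ = H536.T5.DataA.R 82 := by
    conv_rhs => rw [← hα, h5]
    rfl
  have h7 := H536.T5.DataT.tr_conj (isConj_iff.2 ⟨g, h6⟩)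
  rw [h0, h1] at h7
  exact h01 h7

end Cfsg.Agent.H793.G5.Theta
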